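import Cfsg.Agent.H167.KKL.DefsE8
import Cfsg.Agent.H557.Toral

/-!
# S4546, E8: the residual involutions of the Weyl group (helper798, box P1)
-/

set_option autoImplicit false
set_option linter.unusedSectionVars false

namespace Cfsg.Agent.H798.KKL

open CoxeterSystem Cfsg.Agent.ChevalleyStructure.CoxeterGeom Cfsg.Agent.Tits.Roots Cfsg.Agent.Tits.Core
  Cfsg.Agent.Tits.RootComb Cfsg.Agent.Nodes.Comb Cfsg.Agent.Nodes.Reps Cfsg.Agent.Nodes.BNOf
open Cfsg.Agent.H557.Toral Cfsg.Agent.H167.KKL

section Abstract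

variable {I W : Type*} [Fintype I] [DecidableEq I] [Group W] {M : CoxeterMatrix I}
  {cs : CoxeterSystem M W} {A : I → I → ℤ} {h : IsCartan M A}

theorem eq_sum_sr (z : I → ℤ) : z = ∑ k, z k • sr k := by
  funext k
  rw [Finset.sum_apply, Finset.sum_eq_single k (fun b _ hb => by
    rw [Pi.smul_apply, sr_ne hb.symm, smul_zero]) (by simp), Pi.smul_apply, sr_self, smul_eq_mul, mul_one]

/-- an element which is `-1` on the simple roots of `J` is `-1` on their span -/
theorem rep_neg_span {w : W} {J : Set I} (hJ : ∀ i ∈ J, rep cs h w (sr i) = -sr i) {z : I → ℤ}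
    (hz : ∀ k, k ∉ J → z k = 0) : rep cs h w z = -z := by
  conv_lhs => rw [eq_sum_sr z]
  conv_rhs => rw [eq_sum_sr z]
  rw [map_sum, ← Finset.sum_neg_distrib]
  refine Finset.sum_congr rfl fun k _ => ?_
  rw [map_smul]
  by_cases hk : k ∈ J
  · rw [hJ k hk, smul_neg]
  · rw [hz k hk, zero_smul, zero_smul, neg_zero]

/-- an element whose inversions lie in the span of `J` fixes the vectors orthogonal to `J` -/
theorem rep_fix_of_inv {J : Set I} {x : I → ℤ} (hx : ∀ i ∈ J, pairing A i x = 0) : ∀ (m : ℕ) (v : W),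
    cs.length v = m → (∀ b, IsRoot cs h b → 0 ≤ b → rep cs h v b ≤ 0 → ∀ k, k ∉ J → b k = 0) →
    rep cs h v x = x := by
  intro m
  induction m using Nat.strong_induction_on with
  | _ m ih =>
  intro v hv hinv
  by_cases h1 : v = 1
  · rw [h1, map_one, Module.End.one_apply]
  obtain ⟨i, hi⟩ := exists_neg_simple (cs := cs) (h := h) h1
  have hiJ : i ∈ J := by
    by_contra hc
    have := hinv _ (isRoot_sr cs h i) (sr_nonneg i) hi i hc
    rw [sr_self] at this
    exact one_ne_zero this
  have hlen : cs.length (v * cs.simple i) < cs.length v := by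
    have h0 : ¬ 0 ≤ rep cs h v (sr i) := fun h1 => ((isRoot_sr cs h i).act v).not_pos_neg h1 hi
    have h1 : ¬ cs.length v < cs.length (v * cs.simple i) := fun h2 => h0 ((lt_iff' cs h v i).1 h2)
    have h2 := cs.length_mul_simple_ne v i
    omega
  have hsx : rep cs h (cs.simple i) x = x := by
    rw [rep_simple_eq, hx i hiJ, zero_smul, sub_zero]
  have h2 := ih _ (hv ▸ hlen) (v * cs.simple i) rfl (by
    intro b hb hb0 hvb k hk
    have hne : b ≠ sr i := by
      rintro rfl
      rw [rep_mul_apply, rep_simple_sr, map_neg] at hvb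
      exact ((isRoot_sr cs h i).act v).not_pos_neg (neg_nonpos.1 hvb) hi
    have h3 := hb.simple_nonneg hb0 i hne
    have h4 : rep cs h v (rep cs h (cs.simple i) b) ≤ 0 := by rwa [← rep_mul_apply]
    have h5 := hinv _ (hb.act (cs.simple i)) h3 h4 k hk
    rwa [rep_simple_apply cs h i b k (by rintro rfl; exact hk hiJ)] at h5)
  rw [rep_mul_apply, hsx] at h2
  exact h2

end Abstract

section P1

variable {l : ℕ} {M : CoxeterMatrix (Fin l)} {A : Fin l → Fin l → ℤ} (h : IsCartan M A)

/-- the inversions of a residual involution -/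
theorem inv_of_res {w : M.Group} (hw : Res h w) {b : Fin l → ℤ} (hb : rt' h b) (hb0 : 0 ≤ b) (hwb : wv h w b ≤ 0)
    (k : Fin l) (hk : k ∉ {i | wv h w (sr i) = -sr i}) : b k = 0 := by
  by_contra hbk
  have hbk' : 0 < b k := lt_of_le_of_ne (hb0 k) (Ne.symm hbk)
  have hJ : ∀ i ∈ {i | wv h w (sr i) = -sr i}, rep M.toCoxeterSystem h w (sr i) = -sr i := fun i hi => hi
  have hpos : ∀ i, i ∉ {i | wv h w (sr i) = -sr i} → 0 ≤ wv h w (sr i) := by
    intro i hi
    by_contra h1
    exact hi (hw.neg i (((isRoot_sr M.toCoxeterSystem h i).act w).not_nonneg_iff.1 h1))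
  -- `w a_k` has a positive coefficient outside `J`
  obtain ⟨m, hm, hm0⟩ : ∃ m, m ∉ {i | wv h w (sr i) = -sr i} ∧ 0 < wv h w (sr k) m := by
    by_contra hcon
    push Not at hcon
    have h1 : rep M.toCoxeterSystem h w (wv h w (sr k)) = - wv h w (sr k) :=
      rep_neg_span hJ fun m hm => le_antisymm (hcon m hm) (hpos k hk m)
    rw [← rep_mul_apply, hw.sq, map_one, Module.End.one_apply] at h1
    have h2 := congrFun h1 k
    rw [sr_self, Pi.neg_apply] at h2
    have h3 : (0 : ℤ) ≤ wv h w (sr k) k := hpos k hk k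
    omega
  have h1 : wv h w b = ∑ i, b i • wv h w (sr i) := by
    conv_lhs => rw [eq_sum_sr b]
    show rep M.toCoxeterSystem h w _ = _
    rw [map_sum]
    exact Finset.sum_congr rfl fun i _ => map_smul _ _ _
  have h2 : wv h w b m ≤ 0 := hwb m
  rw [h1, Finset.sum_apply] at h2
  have h3 : ∀ i ∈ Finset.univ, 0 ≤ (b i • wv h w (sr i)) m := by
    intro i _
    rw [Pi.smul_apply, smul_eq_mul]
    by_cases hi : wv h w (sr i) = -sr i
    · rw [hi, Pi.neg_apply, sr_ne (by rintro rfl; exact hm hi), neg_zero, mul_zero]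
    · exact mul_nonneg (hb0 i) (hpos i hi m)
  have h4 : 0 < (b k • wv h w (sr k)) m := by
    rw [Pi.smul_apply, smul_eq_mul]
    exact mul_pos hbk' hm0
  have h5 := Finset.single_le_sum h3 (Finset.mem_univ k)
  omega

/-- a residual involution fixes the vectors orthogonal to `J` -/
theorem fix_of_res {w : M.Group} (hw : Res h w) {x : Fin l → ℤ}
    (hx : ∀ i, wv h w (sr i) = -sr i → pairing A i x = 0) : wv h w x = x :=
  rep_fix_of_inv (J := {i | wv h w (sr i) = -sr i}) hx _ w rfl fun _ hb hb0 hwb k hk => inv_of_res h hw hb hb0 hwb k hk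

/-- **P1** -/
theorem P1 [Finite M.Group] {w : M.Group} (hw : Res h w) (j : Fin l) (d : ℤ) (r : Fin l → ℤ)
    (h0 : ∀ i, wv h w (sr i) ≠ -sr i → r i = 0)
    (h1 : ∀ i, wv h w (sr i) = -sr i → pairing A i r = -2 * d * A i j) :
    d • (wv h w (sr j) - sr j) = r := by
  have hr : wv h w r = -r := rep_neg_span (J := {i | wv h w (sr i) = -sr i}) (fun i hi => hi) fun k hk => h0 k hk
  have hpj : ∀ i, pairing A i (sr j) = A i j := by
    intro i
    unfold pairing
    rw [Finset.sum_eq_single j]
    · rw [sr_self, mul_one]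
    · intro k _ hk
      rw [sr_ne hk, mul_zero]
    · intro hk; exact absurd (Finset.mem_univ j) hk
  have hx : wv h w ((2 * d) • sr j + r) = (2 * d) • sr j + r := by
    refine fix_of_res h hw fun i hi => ?_
    have h2 : pairing A i ((2 * d) • sr j + r) = 2 * d * pairing A i (sr j) + pairing A i r := by
      unfold pairing
      rw [Finset.mul_sum, ← Finset.sum_add_distrib]
      refine Finset.sum_congr rfl fun k _ => ?_
      rw [Pi.add_apply, Pi.smul_apply, smul_eq_mul]
      ring
    rw [h2, hpj, h1 i hi]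
    ring
  have h3 : wv h w ((2 * d) • sr j + r) = (2 * d) • wv h w (sr j) + wv h w r := by
    show rep M.toCoxeterSystem h w _ = _
    rw [map_add, map_smul]
  rw [h3, hr] at hx
  funext k
  have h4 := congrFun hx k
  simp only [Pi.add_apply, Pi.smul_apply, Pi.neg_apply, smul_eq_mul] at h4
  simp only [Pi.smul_apply, Pi.sub_apply, smul_eq_mul]
  linarith

end P1

end Cfsg.Agent.H798.KKL
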