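import Cfsg.Agent.H557.LrData

/-!
# S4546: the involutions of the torus of `E₇(q)` (helper798)

* `toral_class` : a class function `N` giving the number of the roots `-1` on the elements of the torus, divisible by
  `4` at `t`: `t` is conjugate to `zS [0]`.
-/

set_option autoImplicit false
set_option linter.unusedSectionVars false

namespace Cfsg.Agent.H798.KKL

open CoxeterSystem
open Cfsg Cfsg.Lie Cfsg.Lie.ChevalleyDatum
open Cfsg.Agent.ChevalleyStructure Cfsg.Agent.ChevalleyStructure.CoxeterGeom
  Cfsg.Agent.ChevalleyStructure.CoxeterGeomTypes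
open Cfsg.Agent.Tits.Roots Cfsg.Agent.Nodes.BNOf Cfsg.Agent.Nodes.RGDChev
open Cfsg.Agent.KFacts.RgdChevCoord (TT XX)
open Cfsg.Agent.GenExc Cfsg.Agent.GenExc.Chev
open Cfsg.Agent.H557.LrSgn Cfsg.Agent.H557.LrOrb Cfsg.Agent.H557.LrIso Cfsg.Agent.H557.LrChev Cfsg.Agent.H557.LrRho
  Cfsg.Agent.H557.LrData Cfsg.Agent.H557.LrTor

theorem card_E7_6 : ((Finset.range chevE7.nroots).filter fun r => ¬ evk chevE7 (l := 7) 6 r = true).card = 54 := by
  decide +kernel

theorem card_E7_1 : ((Finset.range chevE7.nroots).filter fun r => ¬ evk chevE7 (l := 7) 1 r = true).card = 70 := by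
  decide +kernel

theorem card_bits (k : Fin 7) : ((Finset.range chevE7.nroots).filter fun r => bits 7 (2 ^ (k : ℕ)) (vec chevE7 7 r) ≠ 0).card =
    ((Finset.range chevE7.nroots).filter fun r => ¬ evk chevE7 (l := 7) k r = true).card := by
  congr 1
  refine Finset.filter_congr fun r hr => ?_
  rw [evk_iff isType_E7 k (Finset.mem_range.1 hr)]

section

variable {W : Type*} [Group W] (cs : CoxeterSystem CoxeterMatrix.E₇ W)

/-- **Involutions of the torus with `4 ∣ N t`.** -/
theorem toral_class {F : Type} [Field F] [Fintype F] (p : ℕ) [Fact p.Prime] [CharP F p] (hp2 : Odd p)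
    (N : ↥(chevE7.group F) → ℕ) (hN : ∀ g t, N (g * t * g⁻¹) = N t)
    (hdim : ∀ (t) (m : ℕ), SgnEl cs isType_E7.isCartan (TT chevE7 F) (XX chevE7 7 F) (bits 7 m) t →
      N t = ((Finset.range chevE7.nroots).filter fun r => bits 7 m (vec chevE7 7 r) ≠ 0).card)
    {t : ↥(chevE7.group F)} (ht : t ∈ TT chevE7 F) (htt : t * t = 1) (h1 : t ≠ 1) (h4 : 4 ∣ N t) :
    IsConj (zS isType_E7 F [0]) t := by
  have hW : Finite W := finite_W isType_E7 cs
  have hZ : Subgroup.center ↥(chevE7.group F) = ⊥ := center_eq_bot (S1054.result _ (by simp))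
  have R := rgd (K := F) isType_E7 cs p
  obtain ⟨n, hn, hs⟩ := exists_sgn isType_E7 cs p (odd_card (F := F) hp2).2 ht htt
  have key : ∀ t : ↥(chevE7.group F), SgnEl cs isType_E7.isCartan (TT chevE7 F) (XX chevE7 7 F) (bits 7 n) t →
      t ≠ 1 → 4 ∣ N t → IsConj (zS isType_E7 F [0]) t := by
    refine orbit_all (rm := rmE7) (P := fun m => ∀ t : ↥(chevE7.group F),
      SgnEl cs isType_E7.isCartan (TT chevE7 F) (XX chevE7 7 F) (bits 7 m) t → t ≠ 1 → 4 ∣ N t →
      IsConj (zS isType_E7 F [0]) t) (fun j m hP t ht h1 h4 => ?_) okL_E7 (fun m hm => ?_) hn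
    · have h2 := ht.conj R (Cfsg.Agent.Nodes.Reps.rp_simple cs R.nsys j)
      rw [bits_step cs isType_E7.isCartan okR_E7] at h2
      refine (hP _ h2 (fun h3 => h1 ?_) (by rwa [hN])).trans (isConj_iff.2 ⟨_, rfl⟩).symm
      rw [mul_inv_eq_one, mul_eq_left] at h3
      exact h3
    · have hc : ∀ m : ℕ, (18446744073709551623 : ℕ).testBit m = true → m = 0 ∨ m = 1 ∨ m = 64 ∨ m = 2 := by
        intro m hm
        by_cases h : m < 65
        · revert hm
          revert m
          decide +kernel
        · exfalso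
          rw [Nat.testBit_lt_two_pow (lt_of_lt_of_le (by norm_num : (18446744073709551623 : ℕ) < 2 ^ 65)
            (Nat.pow_le_pow_right (by norm_num) (not_lt.1 h)))] at hm
          exact absurd hm (by decide)
      intro t ht h1 h4
      rcases hc m hm with rfl | rfl | rfl | rfl
      · exfalso
        apply h1
        refine SgnEl.unique (G1_eq_top isType_E7 cs) hZ ht ⟨one_mem _, fun a _ _ u _ => by rw [one_mul, mul_one],
          fun a _ h2 => ?_⟩
        exact absurd (by rw [bits_zero]; rfl) h2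
      · have e : bits 7 1 = csz (cartanOf chevE7 7) [2, 4, 6] := bits_E7
        rw [e] at ht
        obtain rfl := SgnEl.unique (G1_eq_top isType_E7 cs) hZ ht (sgnEl_zS isType_E7 F cs [2, 4, 6])
        obtain ⟨k, -, hk⟩ := rhoE7.exists_conj isType_E7 cs p hZ
        exact isConj_iff.2 ⟨k, hk⟩
      · exfalso
        have h5 := hdim t _ ht
        have h6 := card_bits 6
        rw [card_E7_6] at h6
        have h7 : N t = 54 := h5.trans h6
        omega
      · exfalso
        have h5 := hdim t _ ht
        have h6 := card_bits 1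
        rw [card_E7_1] at h6
        have h7 : N t = 70 := h5.trans h6
        omega
  exact key t hs h1 h4

end

end Cfsg.Agent.H798.KKL
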