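import Mathlib
import Cfsg.Agent.H613.KKL.Defs

/-!
# S4546: the dimensions of the `(-1)`-eigenspaces of a pure `2^3` are divisible by 4 (helper798)
-/

set_option autoImplicit false
set_option linter.unusedSectionVars false

namespace Cfsg.Agent.H798.KKL

open Cfsg.Agent.H613.KKL Module

section Lin

variable {k : Type*} [Field k] {V : Type*} [AddCommGroup V] [Module k V]

/-- the sign -/
def sn (k : Type*) [Field k] : Bool → k
  | false => 1
  | true => -1

theorem sn_mul (s t : Bool) : sn k s * sn k t = sn k (xor s t) := by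
  cases s <;> cases t <;> simp [sn]

/-- the eigenspaces -/
def Es (A : End k V) (s : Bool) : Submodule k V := LinearMap.ker (A - sn k s • (1 : End k V))

theorem mem_Es {A : End k V} {s : Bool} {v : V} : v ∈ Es A s ↔ A v = sn k s • v := by
  unfold Es
  rw [LinearMap.mem_ker, LinearMap.sub_apply, LinearMap.smul_apply, End.one_apply, sub_eq_zero]

theorem ker_add_one (A : End k V) : LinearMap.ker (A + 1) = Es A true := by
  unfold Es
  congr 1
  show A + 1 = A - (-1 : k) • (1 : End k V)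
  rw [neg_smul, one_smul, sub_neg_eq_add]

variable [FiniteDimensional k V]

theorem split (h2 : (2 : k) ≠ 0) {A : End k V} (hA : ∀ v, A (A v) = v) {W : Submodule k V} (hW : ∀ v ∈ W, A v ∈ W) :
    finrank k W = finrank k ↥(W ⊓ Es A false) + finrank k ↥(W ⊓ Es A true) := by
  have h1 : (W ⊓ Es A false) ⊓ (W ⊓ Es A true) = ⊥ := by
    rw [eq_bot_iff]
    rintro v ⟨⟨-, h3⟩, -, h4⟩
    have h3 := mem_Es.1 h3
    have h4 := mem_Es.1 h4
    rw [h3] at h4
    have h5 : (1 : k) • v = (-1 : k) • v := h4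
    rw [one_smul, neg_smul, one_smul] at h5
    have h6 : (2 : k) • v = 0 := by
      rw [two_smul]
      nth_rewrite 2 [h5]
      exact add_neg_cancel v
    exact (smul_eq_zero.1 h6).resolve_left h2
  have h3 : (W ⊓ Es A false) ⊔ (W ⊓ Es A true) = W := by
    apply le_antisymm (sup_le inf_le_left inf_le_left)
    intro v hv
    have e : v = (2 : k)⁻¹ • (v + A v) + (2 : k)⁻¹ • (v - A v) := by
      rw [← smul_add]
      have : v + A v + (v - A v) = (2 : k) • v := by rw [two_smul]; abel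
      rw [this, smul_smul, inv_mul_cancel₀ h2, one_smul]
    rw [e]
    refine Submodule.add_mem_sup ⟨W.smul_mem _ (W.add_mem hv (hW v hv)), mem_Es.2 ?_⟩
      ⟨W.smul_mem _ (W.sub_mem hv (hW v hv)), mem_Es.2 ?_⟩
    · show A _ = (1 : k) • _
      rw [one_smul, map_smul, map_add, hA, add_comm]
    · show A _ = (-1 : k) • _
      rw [map_smul, map_sub, hA, neg_smul, one_smul, ← smul_neg, neg_sub]
  have h4 := Submodule.finrank_sup_add_finrank_inf_eq (W ⊓ Es A false) (W ⊓ Es A true)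
  rw [h3, h1, finrank_bot, add_zero] at h4
  exact h4

theorem Es_inv {A B : End k V} (hAB : ∀ v, A (B v) = B (A v)) {s : Bool} {v : V} (hv : v ∈ Es A s) : B v ∈ Es A s := by
  rw [mem_Es] at hv ⊢
  rw [hAB, hv, map_smul]

/-- the joint eigenspaces -/
def Ej (A B C : End k V) (s t u : Bool) : Submodule k V := Es A s ⊓ Es B t ⊓ Es C u

theorem split3 (h2 : (2 : k) ≠ 0) {A B C : End k V} (hA : ∀ v, A (A v) = v) (hB : ∀ v, B (B v) = v)
    (hC : ∀ v, C (C v) = v) (hAB : ∀ v, A (B v) = B (A v)) (hAC : ∀ v, A (C v) = C (A v))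
    (hBC : ∀ v, B (C v) = C (B v)) {W : Submodule k V} (hWA : ∀ v ∈ W, A v ∈ W) (hWB : ∀ v ∈ W, B v ∈ W)
    (hWC : ∀ v ∈ W, C v ∈ W) : finrank k W = ∑ s : Bool, ∑ t : Bool, ∑ u : Bool,
      finrank k ↥(W ⊓ Ej A B C s t u) := by
  rw [split h2 hA hWA]
  have key : ∀ s, finrank k ↥(W ⊓ Es A s) = ∑ t : Bool, ∑ u : Bool, finrank k ↥(W ⊓ Ej A B C s t u) := by
    intro s
    have h3 : ∀ v ∈ W ⊓ Es A s, B v ∈ W ⊓ Es A s := fun v hv => ⟨hWB v hv.1, Es_inv hAB hv.2⟩
    rw [split h2 hB h3]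
    have key2 : ∀ t, finrank k ↥(W ⊓ Es A s ⊓ Es B t) = ∑ u : Bool, finrank k ↥(W ⊓ Ej A B C s t u) := by
      intro t
      have h4 : ∀ v ∈ W ⊓ Es A s ⊓ Es B t, C v ∈ W ⊓ Es A s ⊓ Es B t := fun v hv =>
        ⟨⟨hWC v hv.1.1, Es_inv hAC hv.1.2⟩, Es_inv hBC hv.2⟩
      rw [split h2 hC h4, Fintype.sum_bool]
      have e : ∀ u, W ⊓ Es A s ⊓ Es B t ⊓ Es C u = W ⊓ Ej A B C s t u := by
        intro u
        unfold Ej
        rw [inf_assoc, inf_assoc, inf_assoc]
      rw [e, e, add_comm]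
    rw [Fintype.sum_bool (fun t => ∑ u : Bool, finrank k ↥(W ⊓ Ej A B C s t u)), ← key2, ← key2, add_comm]
  rw [Fintype.sum_bool (fun s => ∑ t : Bool, ∑ u : Bool, finrank k ↥(W ⊓ Ej A B C s t u)), ← key, ← key, add_comm]

/-- the dimension of the `(-1)`-eigenspace of an operator acting on the joint eigenspaces by signs -/
theorem finrank_ker (h2 : (2 : k) ≠ 0) {A B C : End k V} (hA : ∀ v, A (A v) = v) (hB : ∀ v, B (B v) = v)
    (hC : ∀ v, C (C v) = v) (hAB : ∀ v, A (B v) = B (A v)) (hAC : ∀ v, A (C v) = C (A v))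
    (hBC : ∀ v, B (C v) = C (B v)) {X : End k V} (hXA : ∀ v, X (A v) = A (X v)) (hXB : ∀ v, X (B v) = B (X v))
    (hXC : ∀ v, X (C v) = C (X v)) (ε : Bool → Bool → Bool → Bool)
    (hX : ∀ s t u, ∀ v ∈ Ej A B C s t u, X v = sn k (ε s t u) • v) :
    finrank k ↥(LinearMap.ker (X + 1)) =
      ∑ s : Bool, ∑ t : Bool, ∑ u : Bool, if ε s t u = true then finrank k ↥(Ej A B C s t u) else 0 := by
  rw [ker_add_one]
  rw [split3 h2 hA hB hC hAB hAC hBC (W := Es X true) (fun v hv => Es_inv hXA hv) (fun v hv => Es_inv hXB hv)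
    (fun v hv => Es_inv hXC hv)]
  refine Finset.sum_congr rfl fun s _ => Finset.sum_congr rfl fun t _ => Finset.sum_congr rfl fun u _ => ?_
  split_ifs with h
  · have : Es X true ⊓ Ej A B C s t u = Ej A B C s t u := by
      apply inf_eq_right.2
      intro v hv
      rw [mem_Es, hX s t u v hv, h]
    rw [this]
  · have : Es X true ⊓ Ej A B C s t u = ⊥ := by
      rw [eq_bot_iff]
      rintro v ⟨h1, h3⟩
      have h1 := mem_Es.1 h1
      rw [hX s t u v h3] at h1
      have h4 : ε s t u = false := by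
        cases h5 : ε s t u
        · rfl
        · exact absurd h5 h
      rw [h4] at h1
      have h5 : (1 : k) • v = (-1 : k) • v := h1
      rw [one_smul, neg_smul, one_smul] at h5
      have h6 : (2 : k) • v = 0 := by
        rw [two_smul]
        nth_rewrite 2 [h5]
        exact add_neg_cancel v
      exact (smul_eq_zero.1 h6).resolve_left h2
    rw [this, finrank_bot]

end Lin

/-- generators of an elementary abelian group of order 8 -/
theorem exists_gens {K : Type*} [Group K] {D : Subgroup K} (h : E8 D) : ∃ a ∈ D, ∃ b ∈ D, ∃ c ∈ D,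
    a ≠ 1 ∧ b ≠ 1 ∧ c ≠ 1 ∧ a * b ≠ 1 ∧ a * c ≠ 1 ∧ b * c ≠ 1 ∧ a * b * c ≠ 1 := by
  classical
  have hfin : Finite D := Nat.finite_of_card_ne_zero (by rw [h.card]; norm_num)
  have hex : ∀ S : Finset K, S.card < 8 → ∃ d ∈ D, d ∉ S := by
    intro S hS
    by_contra hcon
    push Not at hcon
    have h1 : Nat.card D ≤ S.card := by
      have : Fintype D := Fintype.ofFinite D
      rw [Nat.card_eq_fintype_card, ← Fintype.card_coe]
      exact Fintype.card_le_of_injective (fun d : D => (⟨d, hcon d d.2⟩ : S)) fun a b hab =>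
        Subtype.ext (congrArg (fun x : S => (x : K)) hab)
    rw [h.card] at h1
    omega
  have hinv : ∀ d ∈ D, d⁻¹ = d := fun d hd => inv_eq_of_mul_eq_one_left (h.inv d hd)
  obtain ⟨a, ha, ha1⟩ := hex {1} (by simp)
  obtain ⟨b, hb, hb1⟩ := hex {1, a} (lt_of_le_of_lt (Finset.card_insert_le _ _) (by simp))
  obtain ⟨c, hc, hc1⟩ := hex {1, a, b, a * b} (by
    refine lt_of_le_of_lt (Finset.card_insert_le _ _) ?_
    refine lt_of_le_of_lt (Nat.add_le_add_right (Finset.card_insert_le _ _) 1) ?_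
    refine lt_of_le_of_lt (Nat.add_le_add_right (Nat.add_le_add_right (Finset.card_insert_le _ _) 1) 1) ?_
    simp)
  simp only [Finset.mem_singleton, Finset.mem_insert, not_or] at ha1 hb1 hc1
  refine ⟨a, ha, b, hb, c, hc, ha1, hb1.1, hc1.1, ?_, ?_, ?_, ?_⟩
  · intro h1
    exact hb1.2 (by rw [← hinv a ha]; exact eq_inv_of_mul_eq_one_right h1)
  · intro h1
    exact hc1.2.1 (by rw [← hinv a ha]; exact eq_inv_of_mul_eq_one_right h1)
  · intro h1
    exact hc1.2.2.1 (by rw [← hinv b hb]; exact eq_inv_of_mul_eq_one_right h1)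
  · intro h1
    exact hc1.2.2.2 (by rw [← hinv _ (mul_mem ha hb)]; exact eq_inv_of_mul_eq_one_right h1)

/-- conjugate elements have eigenspaces of the same dimension -/
theorem finrank_conj {K : Type*} [Group K] {k : Type*} [Field k] {V : Type*} [AddCommGroup V] [Module k V]
    (ρ : K →* Module.End k V) (g d : K) :
    finrank k ↥(LinearMap.ker (ρ (g * d * g⁻¹) + 1)) = finrank k ↥(LinearMap.ker (ρ d + 1)) := by
  have hgg : ∀ v, ρ g (ρ g⁻¹ v) = v := by
    intro v
    rw [← Module.End.mul_apply, ← map_mul, mul_inv_cancel, map_one, Module.End.one_apply]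
  have hgg' : ∀ v, ρ g⁻¹ (ρ g v) = v := by
    intro v
    rw [← Module.End.mul_apply, ← map_mul, inv_mul_cancel, map_one, Module.End.one_apply]
  have key : ∀ v, v ∈ LinearMap.ker (ρ d + 1) ↔ ρ g v ∈ LinearMap.ker (ρ (g * d * g⁻¹) + 1) := by
    intro v
    rw [LinearMap.mem_ker, LinearMap.mem_ker, LinearMap.add_apply, LinearMap.add_apply, Module.End.one_apply,
      Module.End.one_apply, map_mul, map_mul, Module.End.mul_apply, Module.End.mul_apply, hgg', ← map_add]
    constructor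
    · intro h
      rw [h, map_zero]
    · intro h
      have := congrArg (ρ g⁻¹) h
      rwa [hgg', map_zero] at this
  refine (LinearEquiv.finrank_eq ?_).symm
  exact
    { toFun := fun v => ⟨ρ g v, (key v).1 v.2⟩
      map_add' := fun v w => Subtype.ext (map_add _ _ _)
      map_smul' := fun c v => Subtype.ext (map_smul _ _ _)
      invFun := fun v => ⟨ρ g⁻¹ v, (key _).2 (by rw [hgg]; exact v.2)⟩
      left_inv := fun v => Subtype.ext (hgg' _)
      right_inv := fun v => Subtype.ext (hgg _) }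

/-- **(F)** -/
theorem four_dvd {K : Type*} [Group K] {D : Subgroup K} (h : E8 D) {y : K} (hy : Seven D y) {k : Type*} [Field k]
    (h2 : (2 : k) ≠ 0) {V : Type*} [AddCommGroup V] [Module k V] [FiniteDimensional k V] (ρ : K →* Module.End k V) :
    ∀ d ∈ D, d ≠ 1 → 4 ∣ Module.finrank k ↥(LinearMap.ker (ρ d + 1)) := by
  obtain ⟨a, ha, b, hb, c, hc, ha1, hb1, hc1, hab1, hac1, hbc1, habc1⟩ := exists_gens h
  intro d hd hd1
  have hcomm : ∀ x ∈ D, ∀ z ∈ D, x * z = z * x := by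
    intro x hx z hz
    have h3 := h.inv _ (mul_mem hx hz)
    have hx' : x⁻¹ = x := inv_eq_of_mul_eq_one_left (h.inv x hx)
    have hz' : z⁻¹ = z := inv_eq_of_mul_eq_one_left (h.inv z hz)
    have h4 : (x * z)⁻¹ = x * z := inv_eq_of_mul_eq_one_left h3
    rw [mul_inv_rev, hx', hz'] at h4
    exact h4.symm
  have hsame : ∀ x ∈ D, x ≠ 1 → finrank k ↥(LinearMap.ker (ρ x + 1)) = finrank k ↥(LinearMap.ker (ρ d + 1)) := by
    intro x hx hx1
    obtain ⟨m, hm⟩ := hy.trans d hd hd1 x hx hx1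
    rw [← hm]
    exact finrank_conj ρ _ _
  have hsq : ∀ x ∈ D, ∀ v, ρ x (ρ x v) = v := by
    intro x hx v
    rw [← Module.End.mul_apply, ← map_mul, h.inv x hx, map_one, Module.End.one_apply]
  have hcm : ∀ x ∈ D, ∀ z ∈ D, ∀ v, ρ x (ρ z v) = ρ z (ρ x v) := by
    intro x hx z hz v
    rw [← Module.End.mul_apply, ← map_mul, hcomm x hx z hz, map_mul, Module.End.mul_apply]
  have main : ∀ x ∈ D, x ≠ 1 → ∀ ε : Bool → Bool → Bool → Bool,
      (∀ s t u, ∀ v ∈ Ej (ρ a) (ρ b) (ρ c) s t u, ρ x v = sn k (ε s t u) • v) →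
      finrank k ↥(LinearMap.ker (ρ d + 1)) = ∑ s : Bool, ∑ t : Bool, ∑ u : Bool,
        if ε s t u = true then finrank k ↥(Ej (ρ a) (ρ b) (ρ c) s t u) else 0 := by
    intro x hx hx1 ε hε
    rw [← hsame x hx hx1]
    exact finrank_ker h2 (hsq a ha) (hsq b hb) (hsq c hc) (hcm a ha b hb) (hcm a ha c hc) (hcm b hb c hc)
      (hcm x hx a ha) (hcm x hx b hb) (hcm x hx c hc) ε hε
  have ea : ∀ s t u, ∀ v ∈ Ej (ρ a) (ρ b) (ρ c) s t u, ρ a v = sn k s • v := fun s t u v hv => mem_Es.1 hv.1.1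
  have eb : ∀ s t u, ∀ v ∈ Ej (ρ a) (ρ b) (ρ c) s t u, ρ b v = sn k t • v := fun s t u v hv => mem_Es.1 hv.1.2
  have ec : ∀ s t u, ∀ v ∈ Ej (ρ a) (ρ b) (ρ c) s t u, ρ c v = sn k u • v := fun s t u v hv => mem_Es.1 hv.2
  have eab : ∀ s t u, ∀ v ∈ Ej (ρ a) (ρ b) (ρ c) s t u, ρ (a * b) v = sn k (xor s t) • v := by
    intro s t u v hv
    rw [map_mul, Module.End.mul_apply, eb s t u v hv, map_smul, ea s t u v hv, smul_smul, mul_comm, sn_mul]
  have eac : ∀ s t u, ∀ v ∈ Ej (ρ a) (ρ b) (ρ c) s t u, ρ (a * c) v = sn k (xor s u) • v := by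
    intro s t u v hv
    rw [map_mul, Module.End.mul_apply, ec s t u v hv, map_smul, ea s t u v hv, smul_smul, mul_comm, sn_mul]
  have ebc : ∀ s t u, ∀ v ∈ Ej (ρ a) (ρ b) (ρ c) s t u, ρ (b * c) v = sn k (xor t u) • v := by
    intro s t u v hv
    rw [map_mul, Module.End.mul_apply, ec s t u v hv, map_smul, eb s t u v hv, smul_smul, mul_comm, sn_mul]
  have eabc : ∀ s t u, ∀ v ∈ Ej (ρ a) (ρ b) (ρ c) s t u, ρ (a * b * c) v = sn k (xor (xor s t) u) • v := by
    intro s t u v hv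
    rw [map_mul, Module.End.mul_apply, ec s t u v hv, map_smul, eab s t u v hv, smul_smul, mul_comm, sn_mul]
  have q1 := main a ha ha1 _ ea
  have q2 := main b hb hb1 _ eb
  have q3 := main c hc hc1 _ ec
  have q4 := main _ (mul_mem ha hb) hab1 _ eab
  have q5 := main _ (mul_mem ha hc) hac1 _ eac
  have q6 := main _ (mul_mem hb hc) hbc1 _ ebc
  have q7 := main _ (mul_mem (mul_mem ha hb) hc) habc1 _ eabc
  simp only [Fintype.sum_bool, Bool.xor_true, Bool.xor_false, Bool.not_true, Bool.not_false, Bool.false_eq_true,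
    if_true, if_false, Bool.false_xor] at q1 q2 q3 q4 q5 q6 q7
  omega

end Cfsg.Agent.H798.KKL
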