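import Cfsg.Agent.H557.Toral

/-!
# S4546, E8: elements of the Weyl group acting as `-1` on their descent set (helper798, box P1)

* `eq_of_par` : `w a_i = - a_i` for `i ∈ J`, `w a_j > 0` for `j ∉ J`, `u ∈ W_J` with `u a_i < 0` for `i ∈ J`:  `w u = 1`;
* `act`, `rep_word_vec` : words acting on the numbers of the roots;
* `par_vec` : the action of `w` on the roots from a certificate `L` for `J`.
-/

set_option autoImplicit false
set_option linter.unusedSectionVars false

namespace Cfsg.Agent.H798.KKL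

open CoxeterSystem Cfsg.Agent.ChevalleyStructure.CoxeterGeom Cfsg.Agent.Tits.Roots Cfsg.Agent.Tits.Core
  Cfsg.Agent.Tits.RootComb Cfsg.Agent.Nodes.Comb Cfsg.Agent.Nodes.Reps Cfsg.Agent.Nodes.BNOf
open Cfsg.Lie Cfsg.Agent.ChevalleyStructure Cfsg.Agent.ChevalleyStructure.NPerm
  Cfsg.Agent.ChevalleyStructure.CoxeterGeomTypes Cfsg.Agent.Nodes.RGDChev
open Cfsg.Agent.ChevalleyStructure.RootVec (rt)
open Cfsg.Agent.H557.Toral

section Abstract

variable {I W : Type*} [Fintype I] [DecidableEq I] [Group W] {M : CoxeterMatrix I}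
  {cs : CoxeterSystem M W} {A : I → I → ℤ} {h : IsCartan M A}

/-- an element which is `-1` on the simple roots of `J` is `-1` on their span -/
theorem rep_span {w : W} {J : Set I} (hJ : ∀ i ∈ J, rep cs h w (sr i) = -sr i) {z : I → ℤ}
    (hz : ∀ k, k ∉ J → z k = 0) : rep cs h w z = -z := by
  have h5 : z = ∑ k, z k • sr k := by
    funext k
    rw [Finset.sum_apply, Finset.sum_eq_single k (fun b _ hb => by
      rw [Pi.smul_apply, sr_ne hb.symm, smul_zero]) (by simp), Pi.smul_apply, sr_self, smul_eq_mul, mul_one]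
  conv_lhs => rw [h5]
  conv_rhs => rw [h5]
  rw [map_sum, ← Finset.sum_neg_distrib]
  refine Finset.sum_congr rfl fun k _ => ?_
  rw [map_smul]
  by_cases hk : k ∈ J
  · rw [hJ k hk, smul_neg]
  · rw [hz k hk, zero_smul, zero_smul, neg_zero]

/-- **the parabolic lemma** : `w = -1` on `J`, `w > 0` outside `J`; `u` changes only the coordinates in `J` (`u ∈ W_J`) and
makes the simple roots of `J` negative. Then `w u = 1`. -/
theorem eq_of_par {w u : W} {J : Set I} (hJ : ∀ i ∈ J, rep cs h w (sr i) = -sr i)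
    (hn : ∀ i, i ∉ J → 0 ≤ rep cs h w (sr i)) (hu : ∀ (x : I → ℤ) k, k ∉ J → rep cs h u x k = x k)
    (huJ : ∀ i ∈ J, rep cs h u (sr i) ≤ 0) : w * u = 1 := by
  refine eq_one_of_nonneg cs h _ fun j => ?_
  change 0 ≤ rep cs h (w * u) (sr j)
  by_cases hj : j ∈ J
  · have h1 : ∀ k, k ∉ J → rep cs h u (sr j) k = 0 := by
      intro k hk
      rw [hu _ k hk, sr_ne (by rintro rfl; exact hk hj)]
    rw [rep_mul_apply, rep_span hJ h1]
    exact neg_nonneg.2 (huJ j hj)
  · by_contra hcon
    have hr := (isRoot_sr cs h j).act (w * u)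
    have hle := hr.not_nonneg_iff.1 hcon
    set y : I → ℤ := rep cs h u (sr j) - sr j with hy
    have hyk : ∀ k, k ∉ J → y k = 0 := by
      intro k hk
      rw [hy, Pi.sub_apply, hu _ k hk, sub_self]
    have e1 : rep cs h (w * u) (sr j) = rep cs h w (sr j) - y := by
      rw [rep_mul_apply]
      have : rep cs h u (sr j) = sr j + y := by rw [hy]; abel
      rw [this, map_add, rep_span hJ hyk, sub_eq_add_neg]
    have hwj := hn j hj
    have hsupp : ∀ k, k ∉ J → rep cs h w (sr j) k = 0 := by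
      intro k hk
      have h1 : (0 : ℤ) ≤ rep cs h w (sr j) k := hwj k
      have h2 : rep cs h (w * u) (sr j) k ≤ (0 : ℤ) := hle k
      rw [e1, Pi.sub_apply, hyk k hk] at h2
      omega
    have hJ' : ∀ i ∈ J, rep cs h w⁻¹ (sr i) = -sr i := by
      intro i hi
      have h1 := congrArg (rep cs h w⁻¹) (hJ i hi)
      rw [← rep_mul_apply, inv_mul_cancel, map_one, Module.End.one_apply, map_neg] at h1
      exact (neg_eq_iff_eq_neg.2 h1).symm
    have h1 := rep_span hJ' hsupp
    rw [← rep_mul_apply, inv_mul_cancel, map_one, Module.End.one_apply] at h1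
    have h2 : (1 : ℤ) = -(rep cs h w (sr j) j) := by
      have := congrFun h1 j
      rwa [sr_self, Pi.neg_apply] at this
    have h3 : (0 : ℤ) ≤ rep cs h w (sr j) j := hwj j
    omega

/-- the same with a word -/
theorem eq_of_par_word {w : W} {J : Set I} (hJ : ∀ i ∈ J, rep cs h w (sr i) = -sr i)
    (hn : ∀ i, i ∉ J → 0 ≤ rep cs h w (sr i)) {L : List I} (hL : ∀ i ∈ L, i ∈ J)
    (hLJ : ∀ i ∈ J, rep cs h (cs.wordProd L) (sr i) ≤ 0) :
    w = (cs.wordProd L)⁻¹ ∧ ∀ i ∈ J, rep cs h (cs.wordProd L) (sr i) = -sr i := by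
  have h1 : w * cs.wordProd L = 1 :=
    eq_of_par hJ hn (fun x k hk => wordProd_apply L x fun h2 => hk (hL k h2)) hLJ
  have h2 : w = (cs.wordProd L)⁻¹ := eq_inv_of_mul_eq_one_left h1
  refine ⟨h2, fun i hi => ?_⟩
  have h3 := congrArg (rep cs h (cs.wordProd L)) (hJ i hi)
  rw [h2, ← rep_mul_apply, mul_inv_cancel, map_one, Module.End.one_apply, map_neg] at h3
  exact (neg_eq_iff_eq_neg.2 h3).symm

/-- the descent set of an element which is `-1` on it -/
theorem nonneg_of_desc {w : W} {J : Set I} (hd : ∀ i, rep cs h w (sr i) ≤ 0 → rep cs h w (sr i) = -sr i)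
    (hJ : ∀ i, i ∈ J ↔ rep cs h w (sr i) = -sr i) : ∀ i, i ∉ J → 0 ≤ rep cs h w (sr i) := by
  intro i hi
  by_contra h1
  exact hi ((hJ i).2 (hd i (((isRoot_sr cs h i).act w).not_nonneg_iff.1 h1)))

end Abstract

section Chev

variable {D : ChevalleyDatum} {l : ℕ} {M : CoxeterMatrix (Fin l)} (hp : IsType D l M) {W : Type*} [Group W]
  (cs : CoxeterSystem M W)

/-- a word (numbers of simple reflections) acting on the number of a root: the last letter acts first -/
def act (D : ChevalleyDatum) (L : List ℕ) (r : ℕ) : ℕ := L.foldr (fun i s => D.reflectRoot i s) r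

/-- the word with letters in `Fin l` -/
def toFin (l : ℕ) (L : List ℕ) : List (Fin l) := L.filterMap fun i => if h : i < l then some ⟨i, h⟩ else none

include hp in
theorem act_lt {L : List ℕ} (hL : ∀ i ∈ L, i < l) {r : ℕ} (hr : r < D.nroots) : act D L r < D.nroots := by
  induction L with
  | nil => exact hr
  | cons i L ih =>
    exact Cfsg.Agent.ChevalleyStructure.Reach.reflect_lt hp.inList (lt_rank hp ⟨i, hL i List.mem_cons_self⟩)
      (ih fun j hj => hL j (List.mem_cons_of_mem _ hj))

theorem toFin_cons {i : ℕ} (hi : i < l) (L : List ℕ) : toFin l (i :: L) = ⟨i, hi⟩ :: toFin l L := by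
  unfold toFin
  rw [List.filterMap_cons]
  simp [hi]

theorem rep_word_vec {L : List ℕ} (hL : ∀ i ∈ L, i < l) {r : ℕ} (hr : r < D.nroots) :
    rep cs hp.isCartan (cs.wordProd (toFin l L)) (vec D l r) = vec D l (act D L r) := by
  induction L with
  | nil =>
    show rep cs hp.isCartan (cs.wordProd []) (vec D l r) = vec D l r
    rw [wordProd_nil, map_one, Module.End.one_apply]
  | cons i L ih =>
    have hi := hL i List.mem_cons_self
    have hL' := fun j hj => hL j (List.mem_cons_of_mem i hj)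
    rw [toFin_cons hi, wordProd_cons, rep_mul_apply, ih hL', rep_vec hp cs ⟨i, hi⟩ (act_lt hp hL' hr)]
    rfl

end Chev

end Cfsg.Agent.H798.KKL
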